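import Groth.Agent.Mod48.KFlatColim
import Groth.Agent.DerComp18.LTensor
import Groth.Agent.DCK91.Tri
import Groth.Agent.DCX42.CoprodH
import Groth.Agent.Coh69.Grothendieck
import Groth.Prelude.Def_DCoh4

/-!
# The derived tensor product with a complex preserves coproducts
-/

set_option autoImplicit false
set_option linter.style.haveILetI false
set_option backward.isDefEq.respectTransparency.types false
set_option maxHeartbeats 1000000

noncomputable section

universe u

open CategoryTheory CategoryTheory.Limits AlgebraicGeometry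

namespace Groth.Agent.QCohTens72

section Site

variable {C : Type u} [SmallCategory C] {J : GrothendieckTopology C} {O : Sheaf J CommRingCat.{u}}

/-- The total tensor product preserves coproducts in the first variable. -/
theorem preservesCoproducts_tensorCx_flip (K : Mod48.CC O) (ι : Type u) :
    PreservesColimitsOfShape (Discrete ι) ((ModSite.tensorCx O).flip.obj K) :=
  haveI := fun n (q : ℤ) => (inferInstance :
    PreservesColimitsOfShape (Discrete ι) (Mod48.summandR K n q))
  HomologicalComplex.preservesColimitsOfShape_of_eval _ fun n =>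
    preservesColimitsOfShape_of_natIso (Mod48.tcEvalIsoR K n).symm

/-- The total tensor product preserves coproducts in the second variable. -/
theorem preservesCoproducts_tensorCx (F : Mod48.CC O) (ι : Type u) :
    PreservesColimitsOfShape (Discrete ι) ((ModSite.tensorCx O).obj F) :=
  haveI := fun n (p : ℤ) => (inferInstance :
    PreservesColimitsOfShape (Discrete ι) (Mod48.summandL F n p))
  HomologicalComplex.preservesColimitsOfShape_of_eval _ fun n =>
    preservesColimitsOfShape_of_natIso (Mod48.tcEvalIso F n).symm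

/-- Sums of K-flat complexes are K-flat. -/
theorem isKFlat_coprod {ι : Type u} (P : ι → Mod48.CC O) (h : ∀ i, ModSite.IsKFlat (P i)) :
    ModSite.IsKFlat (∐ P) := by
  rw [Mod48.isKFlat_iff]
  intro F hF
  haveI := preservesCoproducts_tensorCx F ι
  exact Mod48.acyclic_of_isColimit _ _
    (isColimitOfPreserves ((ModSite.tensorCx O).obj F) (coproductIsCoproduct P))
    fun k => (Mod48.isKFlat_iff _).1 (h k.as) F hF

end Site

attribute [local instance] HasDerivedCategory.standard

variable {X : Scheme.{u}}

/-- `- ⊗^L D` preserves coproducts. -/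
theorem preservesColimit_LTensorCx (D : CochainComplex X.Modules ℤ) [DCoh.HasLTensorCx D] {ι : Type u}
    (K : ι → DCoh.D X) : PreservesColimit (Discrete.functor K) (DCoh.LTensorCx D) := by
  choose P p hP hp using fun i => DCK91.res₀ X (DerivedCategory.Q.objPreimage (K i))
  let e : ∀ i, DerivedCategory.Q.obj (P i) ≅ K i := fun i =>
    (@asIso _ _ _ _ (DerivedCategory.Q.map (p i)) (hp i)) ≪≫ DerivedCategory.Q.objObjPreimageIso (K i)
  suffices h : PreservesColimit (Discrete.functor fun i => DerivedCategory.Q.obj (P i)) (DCoh.LTensorCx D) from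
    preservesColimit_of_iso_diagram (DCoh.LTensorCx D)
      (Discrete.natIso fun i => e i.as :
        (Discrete.functor fun i => DerivedCategory.Q.obj (P i)) ≅ Discrete.functor K)
  let T : CochainComplex X.Modules ℤ ⥤ CochainComplex X.Modules ℤ := (DCoh.tensorCx (X := X)).flip.obj D
  haveI : PreservesColimitsOfShape (Discrete ι) T := preservesCoproducts_tensorCx_flip (O := X.sheaf) D ι
  obtain ⟨hc⟩ := DCX42.nonempty_isColimit_Q P
  obtain ⟨hT⟩ := DCX42.nonempty_isColimit_Q fun i => T.obj (P i)
  let hg := isColimitCofanMkObjOfIsColimit T P _ (coproductIsCoproduct P)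
  let e' := (coproductIsCoproduct fun i => T.obj (P i)).coconePointUniqueUpToIso hg
  have hd : IsColimit (Cofan.mk (DerivedCategory.Q.obj (T.obj (∐ P)))
      fun i => DerivedCategory.Q.map (T.map (Sigma.ι P i))) :=
    hT.ofIsoColimit (Cofan.ext (DerivedCategory.Q.mapIso e') fun i => by
      change DerivedCategory.Q.map (Sigma.ι (fun i => T.obj (P i)) i) ≫ DerivedCategory.Q.map e'.hom = _
      rw [← Functor.map_comp]
      exact congrArg _ ((coproductIsCoproduct _).comp_coconePointUniqueUpToIso_hom hg ⟨i⟩))
  let α := (DCoh.tensorCxQ D).totalLeftDerivedCounit DerivedCategory.Q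
    (HomologicalComplex.quasiIso X.Modules (ComplexShape.up ℤ))
  haveI : ModSite.HasLTensorCx (O := X.sheaf) D := ‹DCoh.HasLTensorCx D›
  have hsum : IsIso (α.app (∐ P)) := DerComp18.isIso_ltCounit (O := X.sheaf) D (∐ P)
    (isKFlat_coprod (O := X.sheaf) P fun i => (hP i).1)
  have hi : ∀ i, IsIso (α.app (P i)) := fun i => DerComp18.isIso_ltCounit (O := X.sheaf) D (P i) (hP i).1
  refine preservesColimit_of_preserves_colimit_cocone hc ((isColimitMapCoconeCofanMkEquiv _ _ _).symm ?_)
  refine (IsColimit.equivOfNatIsoOfIso
    (Discrete.natIso fun i => (@asIso _ _ _ _ (α.app (P i.as)) (hi i.as)).symm :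
      (Discrete.functor fun i => DerivedCategory.Q.obj (T.obj (P i))) ≅
        Discrete.functor fun i => (DCoh.LTensorCx D).obj (DerivedCategory.Q.obj (P i)))
    (Cofan.mk (DerivedCategory.Q.obj (T.obj (∐ P))) fun i => DerivedCategory.Q.map (T.map (Sigma.ι P i)))
    (Cofan.mk ((DCoh.LTensorCx D).obj (DerivedCategory.Q.obj (∐ P)))
      fun i => (DCoh.LTensorCx D).map (DerivedCategory.Q.map (Sigma.ι P i)))
    (Cofan.ext (@asIso _ _ _ _ (α.app (∐ P)) hsum).symm fun i => ?_)) hd
  change (α.app (P i) ≫ DerivedCategory.Q.map (T.map (Sigma.ι P i))) ≫ inv (α.app (∐ P)) =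
    (DCoh.LTensorCx D).map (DerivedCategory.Q.map (Sigma.ι P i))
  rw [IsIso.comp_inv_eq]
  exact (α.naturality (Sigma.ι P i)).symm

end Groth.Agent.QCohTens72
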