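import Groth.Agent.DCX42.QCohPull
import Groth.Agent.DCX42.Coh
import Groth.Agent.PerfFib24.Tensor
import Groth.Agent.TorStalk41.Pull
import Groth.Agent.QC70.Colim
import Groth.Agent.FlatModel41.Exactness
import Groth.Agent.QCTens72.Basic

/-!
# The derived tensor product preserves quasi-coherent cohomology
-/

set_option autoImplicit false
set_option linter.style.haveILetI false
set_option backward.isDefEq.respectTransparency.types false
set_option backward.isDefEq.respectTransparency false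

universe u

open CategoryTheory Limits AlgebraicGeometry
attribute [local instance] HasDerivedCategory.standard

noncomputable section

namespace Groth.Agent.QCohTens72

open Groth.Agent.DCX42

variable {X : Scheme.{u}}

/-- The terms of a tensor product of complexes with quasi-coherent terms are quasi-coherent. -/
theorem isQCoh_tensorCx_X (A B : CochainComplex X.Modules ℤ) (hA : ∀ i, Coh.IsQCoh (A.X i))
    (hB : ∀ i, Coh.IsQCoh (B.X i)) (i : ℤ) : Coh.IsQCoh (((DCoh.tensorCx.obj A).obj B).X i) := by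
  let π := ComplexShape.π (ComplexShape.up ℤ) (ComplexShape.up ℤ) (ComplexShape.up ℤ)
  let f : ↥(π ⁻¹' {i}) → X.Modules := fun j => (DCoh.tensorBi.obj (A.X j.1.1)).obj (B.X j.1.2)
  haveI : HasCoproduct f := inferInstance
  have hf : ∀ j, (f j).IsQuasicoherent := fun j =>
    haveI : (A.X j.1.1).IsQuasicoherent := hA _
    haveI : (B.X j.1.2).IsQuasicoherent := hB _
    QCTens72.isQuasicoherent_tensorMod (A.X j.1.1) (B.X j.1.2)
  let g : ULift.{u} ↥(π ⁻¹' {i}) → X.Modules := fun j => f j.down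
  haveI h : (∐ g).IsQuasicoherent := QC70.isQuasicoherent_coproduct g fun j => hf _
  exact QC70.isQuasicoherent_of_iso
    (Sigma.whiskerEquiv (f := g) (g := f) Equiv.ulift fun _ => Iso.refl _) h

/-- An object with quasi-coherent cohomology on a spectrum has a K-flat model with quasi-coherent terms. -/
theorem exists_qcoh_kflat_model {R : CommRingCat.{u}} {K : DCoh.D (Spec R)} (hK : DCoh.IsQCohD K) :
    ∃ A : CochainComplex (Spec R).Modules ℤ, DCoh.IsKFlat A ∧ (∀ i, Coh.IsQCoh (A.X i)) ∧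
      Nonempty (K ≅ DerivedCategory.Q.obj A) := by
  have : PreservesFiniteLimits (tilde.functor R) := (Groth.Agent.S9498.tilde_exact R).1
  obtain ⟨M, ⟨e⟩⟩ := ((tildeD_fullyFaithful_essImage R).2.2 K).1 hK
  let M₀ : DRing.Cx R := DerivedCategory.Q.objPreimage M
  have hq := DR39.SF.quasiIso_aug M₀
  haveI : IsIso (DerivedCategory.Q.map (DR39.SF.aug M₀)) :=
    (DerivedCategory.isIso_Q_map_iff_quasiIso _ _).2 hq
  refine ⟨((tilde.functor R).mapHomologicalComplex (ComplexShape.up ℤ)).obj (DR39.SF.res M₀),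
    DCK91.isKFlat_tilde R _ (haveI := DR39.SF.isKProjective_res M₀
      DR39.isKFlat_of_isKProjective (P := DR39.SF.res M₀)),
    fun i => show ((tilde.functor R).obj ((DR39.SF.res M₀).X i)).IsQuasicoherent from inferInstance,
    ⟨e.symm ≪≫ (tilde.functor R).mapDerivedCategory.mapIso
      ((DerivedCategory.Q.objObjPreimageIso M).symm ≪≫ (asIso (DerivedCategory.Q.map (DR39.SF.aug M₀))).symm) ≪≫
      (tilde.functor R).mapDerivedCategoryFactors.app _⟩⟩

/-- The derived tensor product can be computed with isomorphic K-flat models. -/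
theorem nonempty_tensor_congr {A A' B B' : CochainComplex X.Modules ℤ} (hA' : DCoh.IsKFlat A')
    (hB : DCoh.IsKFlat B) (a : DerivedCategory.Q.obj A ≅ DerivedCategory.Q.obj A')
    (b : DerivedCategory.Q.obj B ≅ DerivedCategory.Q.obj B') :
    Nonempty (DerivedCategory.Q.obj ((DCoh.tensorCx.obj A).obj B) ≅
      DerivedCategory.Q.obj ((DCoh.tensorCx.obj B').obj A')) := by
  have := PerfFib24.hasLTensorCx B hB
  have := PerfFib24.hasLTensorCx A' hA'
  obtain ⟨u₁⟩ := DCK91.nonempty_ltcIso B hB A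
  obtain ⟨u₂⟩ := DCK91.nonempty_ltcIso B hB A'
  obtain ⟨v₁⟩ := DCK91.nonempty_ltcIso A' hA' B
  obtain ⟨v₂⟩ := DCK91.nonempty_ltcIso A' hA' B'
  exact ⟨u₁.symm ≪≫ (DCoh.LTensorCx B).mapIso a ≪≫ u₂ ≪≫
    DerivedCategory.Q.mapIso (Mod48.tcSymm (O := X.sheaf) A' B) ≪≫
    v₁.symm ≪≫ (DCoh.LTensorCx A').mapIso b ≪≫ v₂⟩

/-- The derived tensor product preserves quasi-coherent cohomology. -/
theorem isQCohD_LTensorCx (F : CochainComplex X.Modules ℤ) (hF : DCoh.IsQCohD (DCoh.toD X F))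
    [DCoh.HasLTensorCx F] {K : DCoh.D X} (hK : DCoh.IsQCohD K) :
    DCoh.IsQCohD ((DCoh.LTensorCx F).obj K) := by
  obtain ⟨F', q, ⟨hF', -⟩, hq⟩ := DCK91.res₀ X F
  have hF'' : DCoh.IsKFlat F' := hF'
  have := PerfFib24.hasLTensorCx F' hF''
  have hqF : DCoh.IsQCohD (DerivedCategory.Q.obj F') :=
    isQCohD_of_iso (@asIso _ _ _ _ (DerivedCategory.Q.map q) hq).symm hF
  let K₀ : CochainComplex X.Modules ℤ := DerivedCategory.Q.objPreimage K
  obtain ⟨P, p, ⟨hP, -⟩, hp⟩ := DCK91.res₀ X K₀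
  let eK : DerivedCategory.Q.obj (P : CochainComplex X.Modules ℤ) ≅ K :=
    @asIso _ _ _ _ _ hp ≪≫ DerivedCategory.Q.objObjPreimageIso K
  obtain ⟨c₁⟩ := TorStalk41.nonempty_ltensorIso F P hP
  obtain ⟨c₂⟩ := TorStalk41.nonempty_ltensorIso F' P hP
  have ht := @FlatModel41.tensor_second_qis _ _ _ X.sheaf _ hP _ _ q
    ((DerivedCategory.isIso_Q_map_iff_quasiIso X.Modules q).1 hq)
  haveI := (DerivedCategory.isIso_Q_map_iff_quasiIso X.Modules ((DCoh.tensorCx.obj P).map q)).2 ht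
  let c : (DCoh.LTensorCx F').obj K ≅ (DCoh.LTensorCx F).obj K :=
    (DCoh.LTensorCx F').mapIso eK.symm ≪≫ c₂ ≪≫ asIso (DerivedCategory.Q.map ((DCoh.tensorCx.obj P).map q)) ≪≫
      c₁.symm ≪≫ (DCoh.LTensorCx F).mapIso eK
  refine isQCohD_of_iso c (isQCohD_of_local fun x => ?_)
  obtain ⟨W, hW, hx, -⟩ := exists_isAffineOpen_mem_and_subset (x := x) (U := (⊤ : X.Opens)) trivial
  refine ⟨_, hW.fromSpec, inferInstance, by rw [hW.range_fromSpec]; exact hx, ?_⟩
  have := DCK91.hasLpull hW.fromSpec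
  obtain ⟨A, hA, hAq, ⟨eA⟩⟩ := exists_qcoh_kflat_model (isQCohD_resD hK hW.fromSpec)
  obtain ⟨l⟩ := DCK91.nonempty_lpullIso hW.fromSpec F' hF''
  obtain ⟨B, hB, hBq, ⟨eB⟩⟩ := exists_qcoh_kflat_model (isQCohD_of_iso l (isQCohD_Lpull hW.fromSpec hqF))
  obtain ⟨r⟩ := PerfFib24.nonempty_res_LTensor hW.fromSpec F' hF'' K A eA
  obtain ⟨s⟩ := nonempty_tensor_congr (A := A) (A' := A) hA
    (DCK91.isKFlat_pullback hW.fromSpec F' hF'') (Iso.refl _) eB
  refine isQCohD_of_iso (r ≪≫ s).symm fun i => ?_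
  exact QC70.isQuasicoherent_of_iso ((DerivedCategory.homologyFunctorFactors _ i).app _).symm
    (isQCoh_homology _ (isQCoh_tensorCx_X B A hBq hAq) i)

end Groth.Agent.QCohTens72
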